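import Cfsg.Agent.Lib.Th.Cert.DceData
import Cfsg.Agent.Lib.Th.Cert.DceOK5

/-! Generated double coset enumeration of the Thompson group. -/
set_option autoImplicit false
set_option maxRecDepth 8000

namespace CfsgLib.Th.DceOK9

open CfsgLib.Presented CfsgLib.Th

theorem c0 : DceData.cert.OKOn 1080 1200 :=
  DceData.cert.okOn_of_chkRange 120 1080 (by decide +kernel)

end CfsgLib.Th.DceOK9
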