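import Cfsg.Agent.Lib.Th.Cert.DceOK0
import Cfsg.Agent.Lib.Th.Cert.DceOK1
import Cfsg.Agent.Lib.Th.Cert.DceOK2
import Cfsg.Agent.Lib.Th.Cert.DceOK3
import Cfsg.Agent.Lib.Th.Cert.DceOK4
import Cfsg.Agent.Lib.Th.Cert.DceOK5
import Cfsg.Agent.Lib.Th.Cert.DceOK6
import Cfsg.Agent.Lib.Th.Cert.DceOK7
import Cfsg.Agent.Lib.Th.Cert.DceOK8
import Cfsg.Agent.Lib.Th.Cert.DceOK9
import Cfsg.Agent.Lib.Th.Cert.DceOK10
import Cfsg.Agent.Lib.Th.Cert.DceOK11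
import Cfsg.Agent.Lib.Th.Cert.DceOK12
import Cfsg.Agent.Lib.Th.Cert.DceOK13
import Cfsg.Agent.Lib.Th.Cert.DceOK14
import Cfsg.Agent.Lib.Th.Cert.DceOK15
import Cfsg.Agent.Lib.Th.Cert.DceOK16
import Cfsg.Agent.Lib.Th.Cert.DceOK17
import Cfsg.Agent.Lib.Th.Cert.DceOK18
import Cfsg.Agent.Lib.Th.Cert.DceOK19
import Cfsg.Agent.Lib.Th.Cert.DceOK20
import Cfsg.Agent.Lib.Th.Cert.DceOK21
import Cfsg.Agent.Lib.Th.Cert.DceOK22
import Cfsg.Agent.Lib.Th.Cert.DceOK23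
import Cfsg.Agent.Lib.Th.Cert.DceOK24
import Cfsg.Agent.Lib.Th.Cert.DceOK25
import Cfsg.Agent.Lib.Th.Cert.DceOK26
import Cfsg.Agent.Lib.Th.Cert.DceOK27
import Cfsg.Agent.Lib.Th.Cert.DceOK28
import Cfsg.Agent.Lib.Th.Cert.DceOK29
import Cfsg.Agent.Lib.Th.Cert.DceOK30
import Cfsg.Agent.Lib.Th.Cert.DceOK31
import Cfsg.Agent.Lib.Th.Cert.DceOK32
import Cfsg.Agent.Lib.Th.Cert.DceOK33
import Cfsg.Agent.Lib.Th.Cert.DceOK34
import Cfsg.Agent.Lib.Th.Cert.DceOK35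

/-! Generated double coset enumeration of the Thompson group. -/
set_option autoImplicit false
set_option maxRecDepth 8000

namespace CfsgLib.Th.DceOK

open CfsgLib.Presented CfsgLib.Th

theorem ok : DceData.cert.OKOn 0 4311 :=
  (Cert.OKOn.append (Cert.OKOn.append (Cert.OKOn.append (Cert.OKOn.append (Cert.OKOn.append DceOK0.c0 DceOK1.c0) (Cert.OKOn.append DceOK2.c0 DceOK3.c0)) (Cert.OKOn.append (Cert.OKOn.append DceOK4.c0 DceOK5.c0) (Cert.OKOn.append DceOK6.c0 (Cert.OKOn.append DceOK7.c0 DceOK8.c0)))) (Cert.OKOn.append (Cert.OKOn.append (Cert.OKOn.append DceOK9.c0 DceOK10.c0) (Cert.OKOn.append DceOK11.c0 DceOK12.c0)) (Cert.OKOn.append (Cert.OKOn.append DceOK13.c0 DceOK14.c0) (Cert.OKOn.append DceOK15.c0 (Cert.OKOn.append DceOK16.c0 DceOK17.c0))))) (Cert.OKOn.append (Cert.OKOn.append (Cert.OKOn.append (Cert.OKOn.append DceOK18.c0 DceOK19.c0) (Cert.OKOn.append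 DceOK20.c0 DceOK21.c0)) (Cert.OKOn.append (Cert.OKOn.append DceOK22.c0 DceOK23.c0) (Cert.OKOn.append DceOK24.c0 (Cert.OKOn.append DceOK25.c0 DceOK26.c0)))) (Cert.OKOn.append (Cert.OKOn.append (Cert.OKOn.append DceOK27.c0 DceOK28.c0) (Cert.OKOn.append DceOK29.c0 DceOK30.c0)) (Cert.OKOn.append (Cert.OKOn.append DceOK31.c0 DceOK32.c0) (Cert.OKOn.append DceOK33.c0 (Cert.OKOn.append DceOK34.c0 DceOK35.c0))))))

end CfsgLib.Th.DceOK
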