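import Cfsg.Agent.Lib.Th.MatData

/-! Generated kernel checks: words trivial in the representation of dimension 248 modulo 3. -/
set_option autoImplicit false
set_option maxRecDepth 20000
set_option maxHeartbeats 0
set_option Elab.async false

namespace CfsgLib.Th.MatOK

open CfsgLib.Presented

theorem w2 : MatPack.isOne 248 Pack248.gens [4, 4] = true := by
  decide +kernel

theorem w5 : MatPack.isOne 248 Pack248.gens [0, 2, 0, 2, 0, 2] = true := by
  decide +kernel

theorem w11 : MatPack.isOne 248 Pack248.gens [4, 8, 4, 8] = true := by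
  decide +kernel

theorem w17 : MatPack.isOne 248 Pack248.gens [11, 5, 10, 4] = true := by
  decide +kernel

theorem w19 : MatPack.isOne 248 Pack248.gens [9, 11, 8, 11, 11, 9, 10, 10, 10] = true := by
  decide +kernel

theorem w20 : MatPack.isOne 248 Pack248.gens [12, 12, 12] = true := by
  decide +kernel

theorem w22 : MatPack.isOne 248 Pack248.gens [13, 3, 12, 2] = true := by
  decide +kernel

theorem w25 : MatPack.isOne 248 Pack248.gens [13, 9, 12, 8] = true := by
  decide +kernel

theorem w26 : MatPack.isOne 248 Pack248.gens [13, 10, 12, 11, 11] = true := by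
  decide +kernel

theorem w29 : MatPack.isOne 248 Pack248.gens [15, 5, 14, 4] = true := by
  decide +kernel

theorem w32 : MatPack.isOne 248 Pack248.gens [15, 3, 5, 1, 2, 14, 3, 0, 4, 2, 9] = true := by
  decide +kernel

theorem w38 : MatPack.isOne 248 Pack248.gens [6, 11, 11, 14, 10, 10, 6, 11, 11, 14, 10, 10, 6, 11, 11, 14, 10, 10, 6, 11, 11, 14, 9, 7, 5, 6, 8, 10, 10, 10, 9, 7, 5, 6, 8, 11, 7, 5, 6, 5, 1] = true := by
  decide +kernel

theorem w39 : MatPack.isOne 248 Pack248.gens [0, 1] = true := by
  decide +kernel

theorem w42 : MatPack.isOne 248 Pack248.gens [3, 2] = true := by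
  decide +kernel

theorem w45 : MatPack.isOne 248 Pack248.gens [6, 7] = true := by
  decide +kernel

theorem w48 : MatPack.isOne 248 Pack248.gens [9, 8] = true := by
  decide +kernel

theorem w51 : MatPack.isOne 248 Pack248.gens [12, 13] = true := by
  decide +kernel

theorem w54 : MatPack.isOne 248 Pack248.gens [15, 14] = true := by
  decide +kernel

end CfsgLib.Th.MatOK
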