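import Cfsg.Agent.Lib.Th.MatData

/-! Generated kernel checks: words trivial in the representation of dimension 248 modulo 3. -/
set_option autoImplicit false
set_option maxRecDepth 20000
set_option maxHeartbeats 0
set_option Elab.async false

namespace CfsgLib.Th.MatOK

open CfsgLib.Presented

theorem w0 : MatPack.isOne 248 Pack248.gens [0, 0] = true := by
  decide +kernel

theorem w1 : MatPack.isOne 248 Pack248.gens [2, 2] = true := by
  decide +kernel

theorem w4 : MatPack.isOne 248 Pack248.gens [8, 8] = true := by
  decide +kernel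

theorem w8 : MatPack.isOne 248 Pack248.gens [2, 6, 2, 6] = true := by
  decide +kernel

theorem w10 : MatPack.isOne 248 Pack248.gens [0, 7, 5, 7, 5, 7, 5, 7, 5] = true := by
  decide +kernel

theorem w12 : MatPack.isOne 248 Pack248.gens [6, 8, 6, 8, 6, 8] = true := by
  decide +kernel

theorem w13 : MatPack.isOne 248 Pack248.gens [2, 4, 6, 8, 2, 4, 6, 8, 2, 4, 6, 8, 2, 4, 6, 8, 2, 4, 6, 8, 2, 4, 6, 8, 2, 4, 6, 8, 2, 4, 6, 8] = true := by
  decide +kernel

theorem w15 : MatPack.isOne 248 Pack248.gens [11, 1, 10, 0] = true := by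
  decide +kernel

theorem w18 : MatPack.isOne 248 Pack248.gens [10, 6, 10, 6] = true := by
  decide +kernel

theorem w23 : MatPack.isOne 248 Pack248.gens [13, 5, 12, 4] = true := by
  decide +kernel

theorem w27 : MatPack.isOne 248 Pack248.gens [14, 14, 5, 1] = true := by
  decide +kernel

theorem w30 : MatPack.isOne 248 Pack248.gens [15, 9, 14, 8] = true := by
  decide +kernel

theorem w35 : MatPack.isOne 248 Pack248.gens [9, 11, 11, 15, 10, 10, 8, 11, 11, 14, 10, 10] = true := by
  decide +kernel

theorem w36 : MatPack.isOne 248 Pack248.gens [0, 4, 11, 15, 11, 15, 11, 15] = true := by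
  decide +kernel

theorem w41 : MatPack.isOne 248 Pack248.gens [2, 3] = true := by
  decide +kernel

theorem w44 : MatPack.isOne 248 Pack248.gens [5, 4] = true := by
  decide +kernel

theorem w47 : MatPack.isOne 248 Pack248.gens [8, 9] = true := by
  decide +kernel

theorem w50 : MatPack.isOne 248 Pack248.gens [11, 10] = true := by
  decide +kernel

theorem w53 : MatPack.isOne 248 Pack248.gens [14, 15] = true := by
  decide +kernel

end CfsgLib.Th.MatOK
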