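import Cfsg.Agent.Lib.Th.MatData

/-! Generated kernel checks: words trivial in the representation of dimension 248 modulo 3. -/
set_option autoImplicit false
set_option maxRecDepth 20000
set_option maxHeartbeats 0
set_option Elab.async false

namespace CfsgLib.Th.MatOK

open CfsgLib.Presented

theorem w3 : MatPack.isOne 248 Pack248.gens [6, 6] = true := by
  decide +kernel

theorem w6 : MatPack.isOne 248 Pack248.gens [0, 8, 0, 8] = true := by
  decide +kernel

theorem w7 : MatPack.isOne 248 Pack248.gens [2, 4, 2, 4, 2, 4] = true := by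
  decide +kernel

theorem w9 : MatPack.isOne 248 Pack248.gens [2, 8, 2, 8] = true := by
  decide +kernel

theorem w14 : MatPack.isOne 248 Pack248.gens [10, 10, 10, 10, 10, 10, 10] = true := by
  decide +kernel

theorem w16 : MatPack.isOne 248 Pack248.gens [11, 3, 10, 2] = true := by
  decide +kernel

theorem w21 : MatPack.isOne 248 Pack248.gens [13, 1, 12, 0] = true := by
  decide +kernel

theorem w24 : MatPack.isOne 248 Pack248.gens [13, 7, 12, 6] = true := by
  decide +kernel

theorem w28 : MatPack.isOne 248 Pack248.gens [15, 1, 14, 0] = true := by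
  decide +kernel

theorem w31 : MatPack.isOne 248 Pack248.gens [6, 8, 15, 6, 14, 6, 8, 15, 6, 14] = true := by
  decide +kernel

theorem w33 : MatPack.isOne 248 Pack248.gens [7, 15, 6, 3, 5, 1, 2, 7, 14, 6, 3, 0, 4, 2, 5, 9, 7, 15, 6, 3, 5, 1, 2, 9, 15] = true := by
  decide +kernel

theorem w34 : MatPack.isOne 248 Pack248.gens [15, 12, 14, 12] = true := by
  decide +kernel

theorem w37 : MatPack.isOne 248 Pack248.gens [0, 4, 11, 15, 10, 14, 11, 15, 10, 14, 11, 15, 10, 14, 11, 15, 10, 14] = true := by
  decide +kernel

theorem w40 : MatPack.isOne 248 Pack248.gens [1, 0] = true := by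
  decide +kernel

theorem w43 : MatPack.isOne 248 Pack248.gens [4, 5] = true := by
  decide +kernel

theorem w46 : MatPack.isOne 248 Pack248.gens [7, 6] = true := by
  decide +kernel

theorem w49 : MatPack.isOne 248 Pack248.gens [10, 11] = true := by
  decide +kernel

theorem w52 : MatPack.isOne 248 Pack248.gens [13, 12] = true := by
  decide +kernel

end CfsgLib.Th.MatOK
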