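import Cfsg.Agent.Lib.Th.Triality

/-!
Small generated tables: orbit representatives with witnesses in the 248-dimensional representation.
-/
set_option autoImplicit false

namespace CfsgLib.Th.Small

/-- nontrivial orbit representatives of the subgroup on 17199 points, with witness entries -/
def lReps : List (List ℕ × ℕ × ℕ) := [([3], 0, 53),
  ([7], 0, 56),
  ([11], 0, 52),
  ([10], 0, 53),
  ([7, 3], 0, 53),
  ([11, 3], 0, 52),
  ([10, 3], 0, 52),
  ([11, 7], 0, 52),
  ([10, 7], 0, 53),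
  ([11, 7, 3], 0, 53),
  ([10, 7, 3], 0, 52)]

/-- rounds needed to fill each orbit -/
def lRounds : ℕ := 12

/-- words naming the orbits, with witness entries -/
def orbWords : List (List ℕ × ℕ × ℕ) := [([], 0, 0),
  ([14], 0, 52),
  ([14, 3, 14], 0, 53),
  ([14, 7, 3, 14], 0, 52),
  ([14, 11, 3, 14], 0, 52),
  ([14, 11, 7, 3, 14], 0, 53),
  ([14, 10, 7, 3, 14], 0, 53),
  ([14, 3, 14, 7, 14], 0, 53),
  ([14, 3, 14, 11, 7, 14], 0, 53),
  ([14, 7, 3, 14, 10, 9, 10, 9, 7, 3, 14], 0, 53),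
  ([14, 11, 3, 14, 12, 7, 5, 7, 9, 10, 9, 7, 5, 7, 3, 14], 0, 55)]

/-- suborbits on 819 points: representative, size, rounds, bit set -/
def subs : List (ℕ × ℕ × ℕ × ℕ) := [(0, 18, 6, 0x18000007c0007803865),
  (1, 288, 11, 0x4000080000000000000000000030301858218c31fc001a3780000000000000000007dc3fa2fc7ff04fb87f7e05f8ffe000000000000fe3fe3eff0bf8fff1f7fc000000fdf9ff07df9ff8000ffdf02ff7c07fe03ff1f803f380ec39a),
  (10, 512, 15, 0x7fffffffffffffffffffffbffff7ffffffffffffffffffffcfcfe7a7de73ce03ffe5c87ffffffffffffffffff823c05d03800fb0478081fa07001ffffffffffff01c01c100f407000e0803ffffff020600f8206007fff0020f90083f8007c00e003c0c0710400),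
  (106, 1, 0, 0x400000000000000000000000000)]

end CfsgLib.Th.Small
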